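import Groth.Agent.Lib.AdicSmooth.FieldFS
import Mathlib

/-!
# Formally smooth Artinian local algebras; lengths under flat maps
-/

set_option autoImplicit false
set_option linter.style.haveILetI false

universe u v

open IsLocalRing TensorProduct

namespace SmoothArtin29

/-- prime fields are perfect enough -/
theorem formallySmooth_prime (F : Type) [Field F] (hF : Finite F ∨ CharZero F) (L : Type v) [Field L] [Algebra F L] :
    Algebra.FormallySmooth F L := by
  let f := algebraMap F L
  letI : Algebra F f.fieldRange := f.rangeRestrictField.toAlgebra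
  haveI : IsScalarTower F f.fieldRange L := IsScalarTower.of_algebraMap_eq fun _ => rfl
  haveI : PerfectField f.fieldRange := by
    rcases hF with h | h
    · haveI : Finite f.fieldRange := Finite.of_surjective _ f.rangeRestrictField_bijective.2
      exact inferInstance
    · haveI : CharZero f.fieldRange := charZero_of_injective_ringHom f.rangeRestrictField.injective
      exact inferInstance
  haveI : Algebra.FormallySmooth f.fieldRange L := Groth.Agent.FieldFS.formallySmooth_of_perfectField _ _
  haveI : Algebra.FormallySmooth F f.fieldRange :=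
    Algebra.FormallySmooth.of_equiv (AlgEquiv.ofBijective (Algebra.ofId F f.fieldRange) f.rangeRestrictField_bijective)
  exact Algebra.FormallySmooth.comp F f.fieldRange L

/-- a formally smooth Artinian local algebra over a field with smooth residue field is a field -/
theorem maximalIdeal_eq_bot {F : Type} [Field F] {C : Type v} [CommRing C] [IsLocalRing C] [IsArtinianRing C]
    [Algebra F C] [Algebra.FormallySmooth F C] [Algebra.FormallySmooth F (ResidueField C)] :
    maximalIdeal C = ⊥ := by
  classical
  let L := ResidueField C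
  let n := maximalIdeal C
  by_contra hne
  have hnil : IsNilpotent n := by
    obtain ⟨k, hk⟩ := IsArtinianRing.isNilpotent_jacobson_bot (R := C)
    rw [IsLocalRing.jacobson_eq_maximalIdeal _ bot_ne_top] at hk
    exact ⟨k, hk⟩
  obtain ⟨n0, hn0, hn0'⟩ : ∃ x ∈ n, x ∉ n ^ 2 := by
    by_contra hcon
    push Not at hcon
    refine hne ?_
    exact Submodule.eq_bot_of_le_smul_of_le_jacobson_bot n n (IsNoetherian.noetherian _)
      (by rw [smul_eq_mul, ← pow_two]; exact hcon) (IsLocalRing.maximalIdeal_le_jacobson _)
  let C1 := C ⧸ n ^ 2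
  let π : C1 →ₐ[F] L := Ideal.Quotient.factorₐ F (Ideal.pow_le_self two_ne_zero)
  have hπ : ∀ c : C, π (Ideal.Quotient.mk _ c) = residue C c := fun c => rfl
  have hπs : Function.Surjective π := fun y => by
    obtain ⟨c, rfl⟩ := residue_surjective y
    exact ⟨_, hπ c⟩
  have hk2 : ∀ x y : C1, π x = 0 → π y = 0 → x * y = 0 := fun x y hx hy => by
    obtain ⟨a, rfl⟩ := Ideal.Quotient.mk_surjective x
    obtain ⟨b, rfl⟩ := Ideal.Quotient.mk_surjective y
    rw [hπ, residue_eq_zero_iff] at hx hy
    rw [← map_mul, Ideal.Quotient.eq_zero_iff_mem, pow_two]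
    exact Ideal.mul_mem_mul hx hy
  have hπnil : IsNilpotent (RingHom.ker (π : C1 →+* L)) := by
    refine ⟨2, le_bot_iff.1 ?_⟩
    refine (pow_two _).trans_le ?_
    exact Ideal.mul_le.2 fun x hx y hy => (Submodule.mem_bot _).2 (hk2 x y hx hy)
  let σ : L →ₐ[F] C1 := Algebra.FormallySmooth.liftOfSurjective (AlgHom.id F L) π hπs hπnil
  have hσ : ∀ a, π (σ a) = a := Algebra.FormallySmooth.liftOfSurjective_apply _ π hπs hπnil
  letI : Algebra L C1 := σ.toRingHom.toAlgebra
  let m0 : C1 := Ideal.Quotient.mk _ n0
  have hm0 : m0 ≠ 0 := fun h => hn0' (Ideal.Quotient.eq_zero_iff_mem.1 h)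
  obtain ⟨φ, hφ⟩ := (LinearMap.toSpanSingleton L C1 m0).exists_leftInverse_of_injective
    (LinearMap.ker_toSpanSingleton L hm0)
  have hφ0 : φ m0 = 1 := by simpa using LinearMap.congr_fun hφ 1
  let X2 : Ideal (Polynomial L) := Ideal.span {(Polynomial.X : Polynomial L) ^ 2}
  let ell : C1 → L := fun x => φ (x - σ (π x))
  have hell_add : ∀ x y, ell (x + y) = ell x + ell y := fun x y => by
    simp only [ell, map_add]; rw [← map_add φ]; congr 1; ring
  have hell_mul : ∀ x y, ell (x * y) = π x * ell y + π y * ell x := fun x y => by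
    have h0 := hk2 (x - σ (π x)) (y - σ (π y)) (by rw [map_sub, hσ, sub_self]) (by rw [map_sub, hσ, sub_self])
    have : x * y - σ (π (x * y)) = π x • (y - σ (π y)) + π y • (x - σ (π x)) := by
      rw [Algebra.smul_def, Algebra.smul_def, map_mul, map_mul]
      show x * y - σ (π x) * σ (π y) = σ (π x) * _ + σ (π y) * _
      linear_combination h0
    simp only [ell]
    rw [this, map_add, map_smul, map_smul, smul_eq_mul, smul_eq_mul]
  let ψ0 : C1 → Polynomial L ⧸ X2 := fun x =>
    Ideal.Quotient.mk X2 (Polynomial.C (π x) + Polynomial.C (ell x) * Polynomial.X)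
  have hX2 : Ideal.Quotient.mk X2 ((Polynomial.X : Polynomial L) ^ 2) = 0 :=
    Ideal.Quotient.eq_zero_iff_mem.2 (Ideal.subset_span rfl)
  have hell1 : ∀ r : F, ell (algebraMap F C1 r) = 0 := fun r => by simp [ell]
  let ψ : C1 →ₐ[F] Polynomial L ⧸ X2 :=
    { toFun := ψ0
      map_one' := by
        have : ell 1 = 0 := by simpa using hell1 1
        simp [ψ0, this]
      map_mul' := fun x y => by
        simp only [ψ0]
        rw [← map_mul (Ideal.Quotient.mk X2), Ideal.Quotient.eq, map_mul, hell_mul, Ideal.mem_span_singleton]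
        refine ⟨-(Polynomial.C (ell x) * Polynomial.C (ell y)), ?_⟩
        simp only [map_add, map_mul]
        ring
      map_zero' := by
        have : ell 0 = 0 := by simp [ell]
        simp [ψ0, this]
      map_add' := fun x y => by
        simp only [ψ0, map_add, hell_add, add_mul]
        abel
      commutes' := fun r => by
        simp only [ψ0, hell1, map_zero, zero_mul, add_zero, AlgHom.commutes]
        rfl }
  obtain ⟨M, hM⟩ := hnil
  let N := M + 2
  let XN : Ideal (Polynomial L) := Ideal.span {(Polynomial.X : Polynomial L) ^ N}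
  have hle : XN ≤ X2 := by
    rw [Ideal.span_singleton_le_span_singleton]
    exact pow_dvd_pow _ (by omega)
  let g : Polynomial L ⧸ XN →ₐ[F] Polynomial L ⧸ X2 := Ideal.Quotient.factorₐ F hle
  have hgs : Function.Surjective g := fun y => by
    obtain ⟨q, rfl⟩ := Ideal.Quotient.mk_surjective y
    exact ⟨Ideal.Quotient.mk XN q, rfl⟩
  have hgnil : IsNilpotent (RingHom.ker (g : Polynomial L ⧸ XN →+* Polynomial L ⧸ X2)) := by
    refine ⟨N, le_bot_iff.1 ?_⟩
    have h1 : RingHom.ker (g : Polynomial L ⧸ XN →+* Polynomial L ⧸ X2) ≤ X2.map (Ideal.Quotient.mk XN) := fun y hy => by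
      obtain ⟨q, rfl⟩ := Ideal.Quotient.mk_surjective y
      exact Ideal.mem_map_of_mem _ (Ideal.Quotient.eq_zero_iff_mem.1 hy)
    refine (Ideal.pow_right_mono h1 N).trans ?_
    rw [← Ideal.map_pow, Ideal.span_singleton_pow, ← Ideal.map_quotient_self XN, ← pow_mul]
    refine Ideal.map_mono ?_
    rw [Ideal.span_singleton_le_span_singleton]
    exact pow_dvd_pow _ (by omega)
  let mk1 : C →ₐ[F] C1 := Ideal.Quotient.mkₐ F _
  let τ : C →ₐ[F] Polynomial L ⧸ XN := Algebra.FormallySmooth.liftOfSurjective (ψ.comp mk1) g hgs hgnil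
  have hτ : g (τ n0) = ψ m0 := Algebra.FormallySmooth.liftOfSurjective_apply _ g hgs hgnil n0
  obtain ⟨P, hP⟩ := Ideal.Quotient.mk_surjective (τ n0)
  rw [← hP] at hτ
  have h2 : P - Polynomial.X ∈ X2 := by
    rw [← Ideal.Quotient.eq]
    refine hτ.trans ?_
    show Ideal.Quotient.mk X2 _ = _
    have hπ0 : π m0 = 0 := by rw [hπ, residue_eq_zero_iff]; exact hn0
    simp [ell, hπ0, hφ0]
  obtain ⟨Q, hQ⟩ := Ideal.mem_span_singleton.1 h2
  have hPM : (Ideal.Quotient.mk XN P) ^ M = 0 := by
    rw [hP, ← map_pow]
    have : n0 ^ M ∈ n ^ M := Ideal.pow_mem_pow hn0 M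
    rw [hM] at this
    rw [(Submodule.mem_bot _).1 this, map_zero]
  rw [← map_pow, Ideal.Quotient.eq_zero_iff_mem, Ideal.mem_span_singleton, eq_add_of_sub_eq hQ,
    show Polynomial.X ^ 2 * Q + Polynomial.X = Polynomial.X * (1 + Polynomial.X * Q) by ring, mul_pow,
    show N = M + 2 from rfl, pow_add, mul_dvd_mul_iff_left (pow_ne_zero _ Polynomial.X_ne_zero)] at hPM
  have := Polynomial.X_dvd_iff.1 ((dvd_pow_self Polynomial.X two_ne_zero).trans hPM)
  simp [Polynomial.coeff_zero_eq_eval_zero] at this

/-- length along a flat local map -/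
theorem length_baseChange {A : Type u} {B : Type v} [CommRing A] [CommRing B] [IsLocalRing A] [Algebra A B]
    [Module.Flat A B] (M : Type u) [AddCommGroup M] [Module A M] (hM : IsFiniteLength A M) :
    Module.length B (B ⊗[A] M) = Module.length A M * Module.length B (B ⊗[A] (A ⧸ maximalIdeal A)) := by
  induction hM with
  | @of_subsingleton M _ _ _ =>
    haveI : Subsingleton (B ⊗[A] M) := inferInstance
    rw [Module.length_eq_zero, Module.length_eq_zero, zero_mul]
  | @of_simple_quotient M _ _ N hs _ ih =>
    obtain ⟨J, hJ, ⟨e⟩⟩ := isSimpleModule_iff_quot_maximal.1 hs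
    obtain rfl : J = maximalIdeal A := IsLocalRing.eq_maximalIdeal hJ
    rw [Module.length_eq_add_of_exact N.subtype N.mkQ (Submodule.subtype_injective _) (Submodule.mkQ_surjective _)
        (LinearMap.exact_subtype_mkQ N),
      Module.length_eq_add_of_exact (N.subtype.baseChange B) (N.mkQ.baseChange B)
        (Module.Flat.lTensor_preserves_injective_linearMap _ (Submodule.subtype_injective _))
        (LinearMap.lTensor_surjective B (Submodule.mkQ_surjective _))
        (Module.Flat.lTensor_exact B (LinearMap.exact_subtype_mkQ N)),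
      ih, (e.baseChange A B _ _).length_eq, add_mul]
    congr 1
    rw [show Module.length A (M ⧸ N) = 1 from Module.length_eq_one _ _, one_mul]

/-- equal lengths for flat formally smooth maps of Artinian local rings -/
theorem length_eq (A : Type u) (B : Type v) [CommRing A] [CommRing B] [IsLocalRing A] [IsLocalRing B]
    [IsArtinianRing A] [IsArtinianRing B] [Algebra A B] [Module.Flat A B] [Algebra.FormallySmooth A B] :
    Module.length A A = Module.length B B := by
  haveI : IsLocalHom (algebraMap A B) := ⟨fun a ha => by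
    by_contra hna
    obtain ⟨k, hk⟩ := IsArtinianRing.isNilpotent_jacobson_bot (R := A)
    have hmem : a ^ k ∈ (⊥ : Ideal A).jacobson ^ k := Ideal.pow_mem_pow (by
      rw [IsLocalRing.jacobson_eq_maximalIdeal _ bot_ne_top]; exact (mem_maximalIdeal _).2 hna) k
    rw [hk] at hmem
    have h0 := (ha.pow k)
    rw [← map_pow, (Submodule.mem_bot _).1 hmem, map_zero] at h0
    exact not_isUnit_zero h0⟩
  let k := A ⧸ maximalIdeal A
  letI : Field k := Ideal.Quotient.field _
  let C := B ⊗[A] k
  let T := k ⊗[A] B
  haveI : Algebra.FormallySmooth k T := inferInstance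
  let J := (maximalIdeal A).map (algebraMap A B)
  have hJ : J ≠ ⊤ := fun h => (maximalIdeal.isMaximal B).ne_top
    (top_le_iff.1 (h ▸ (Ideal.map_le_iff_le_comap.2 fun a ha => map_nonunit (algebraMap A B) a ha : J ≤ maximalIdeal B)))
  haveI : Nontrivial (B ⧸ J) := Ideal.Quotient.nontrivial_iff.2 hJ
  let e1 := Algebra.TensorProduct.quotIdealMapEquivTensorQuot B (maximalIdeal A)
  let e2 : (B ⧸ J) ≃+* T := e1.toRingEquiv.trans (Algebra.TensorProduct.comm A B k).toRingEquiv
  haveI : IsLocalRing (B ⧸ J) := IsLocalRing.of_surjective' (Ideal.Quotient.mk J) Ideal.Quotient.mk_surjective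
  haveI : IsLocalRing T := e2.isLocalRing
  haveI : IsArtinianRing T := e2.surjective.isArtinianRing
  haveI : IsLocalRing C := e1.toRingEquiv.isLocalRing
  haveI : IsArtinianRing C := e1.toRingEquiv.surjective.isArtinianRing
  have hT : IsField T := by
    rw [IsLocalRing.isField_iff_maximalIdeal_eq]
    obtain ⟨p, hp⟩ := CharP.exists k
    rcases CharP.char_is_prime_or_zero k p with hpp | rfl
    · haveI : Fact p.Prime := ⟨hpp⟩
      letI : Algebra (ZMod p) k := ZMod.algebra k p
      haveI := formallySmooth_prime (ZMod p) (Or.inl inferInstance) k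
      haveI := formallySmooth_prime (ZMod p) (Or.inl inferInstance) (ResidueField T)
      haveI := Algebra.FormallySmooth.comp (ZMod p) k T
      exact maximalIdeal_eq_bot (F := ZMod p)
    · haveI := CharP.charP_to_charZero k
      letI : Algebra ℚ k := DivisionRing.toRatAlgebra
      haveI := formallySmooth_prime ℚ (Or.inr inferInstance) k
      haveI := formallySmooth_prime ℚ (Or.inr inferInstance) (ResidueField T)
      haveI := Algebra.FormallySmooth.comp ℚ k T
      exact maximalIdeal_eq_bot (F := ℚ)
  have hC : IsField C := MulEquiv.isField hT (Algebra.TensorProduct.comm A B k).toMulEquiv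
  have h1 : Module.length B C = 1 := by
    letI := hC.toField
    have hsurj : Function.Surjective (algebraMap B C) := fun z => by
      induction z using TensorProduct.induction_on with
      | zero => exact ⟨0, map_zero _⟩
      | tmul b c =>
        obtain ⟨a, rfl⟩ := Ideal.Quotient.mk_surjective c
        refine ⟨a • b, ?_⟩
        rw [Algebra.TensorProduct.algebraMap_apply, Algebra.algebraMap_self_apply, TensorProduct.smul_tmul,
          Algebra.smul_def, mul_one]
        rfl
      | add x y hx hy =>
        obtain ⟨x', hx⟩ := hx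
        obtain ⟨y', hy⟩ := hy
        exact ⟨x' + y', by rw [map_add, hx, hy]⟩
    rw [Module.length_eq_of_surjective hsurj]
    exact Module.length_eq_one C C
  have hfin : IsFiniteLength A A := isFiniteLength_iff_isNoetherian_isArtinian.2 ⟨inferInstance, inferInstance⟩
  have h := length_baseChange (B := B) A hfin
  rw [(TensorProduct.AlgebraTensorModule.rid A B B).length_eq] at h
  rw [h]
  exact ((congrArg (Module.length A A * ·) h1).trans (mul_one _)).symm

end SmoothArtin29
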